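import Cfsg.Agent.TO.S4.Tor
import Cfsg.Agent.BHZ.Nil.LocBasic
import Cfsg.Agent.H292.SpCen
import Cfsg.Agent.H95.StemCover
import Cfsg.Agent.S2092

/-!
# S4817: `Sp₄(q)`, `q` even (helper63)
-/

set_option autoImplicit false
set_option linter.unusedSectionVars false

namespace Cfsg.Agent.TO.S4

open Cfsg Matrix Subgroup

theorem inj_four {A I : Type} [Group A] [Fintype I] (hI : Fintype.card I = 4) (hA : ∀ a : A, a = a⁻¹ → a = 1) {W : I → A}
    (hW : ∀ i, ∃ j, W j = (W i)⁻¹) {k l : I} (h1 : W k ≠ 1) (h2 : W l ≠ 1) (h3 : W l ≠ W k) (h4 : W l ≠ (W k)⁻¹) :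
    Function.Injective W ∧ ∀ i, W i ≠ 1 := by
  classical
  have h5 : ({W k, (W k)⁻¹, W l, (W l)⁻¹} : Finset A).card = 4 := Finset.card_eq_four.2 ⟨_, _, _, _, fun e => h1 (hA _ e),
    h3.symm, fun e => h4 (inv_eq_iff_eq_inv.1 e.symm), h4.symm, fun e => h3 (inv_injective e).symm, fun e => h2 (hA _ e), rfl⟩
  have h6 : ({W k, (W k)⁻¹, W l, (W l)⁻¹} : Finset A) ⊆ Finset.univ.image W := fun a ha => by
    simp only [Finset.mem_insert, Finset.mem_singleton] at ha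
    simp only [Finset.mem_image, Finset.mem_univ, true_and]
    rcases ha with rfl | rfl | rfl | rfl
    exacts [⟨k, rfl⟩, hW k, ⟨l, rfl⟩, hW l]
  have h7 := Finset.eq_of_subset_of_card_le h6 (Finset.card_image_le.trans (by rw [h5, Finset.card_univ, hI]))
  refine ⟨fun a b => Finset.card_image_iff.1 (by rw [← h7, h5, Finset.card_univ, hI]) (Finset.mem_univ a)
    (Finset.mem_univ b), fun i => ?_⟩
  have h8 := h7 ▸ Finset.mem_image_of_mem W (Finset.mem_univ i)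
  simp only [Finset.mem_insert, Finset.mem_singleton] at h8
  rcases h8 with e | e | e | e <;> rw [e]
  exacts [h1, inv_ne_one.2 h1, h2, inv_ne_one.2 h2]

theorem pow_four : ∀ π σ : Equiv.Perm (Fin 2 ⊕ Fin 2), (∀ i, π i ≠ i ∧ π (π i) = i ∧ σ (π i) = π (σ i)) →
    ∀ i, σ (σ (σ (σ i))) = i := by decide +kernel

variable {K G : Type} [Field K] [CharP K 2] [Group G] [Finite G]

theorem Fr.tor {φ : G →* Matrix (Fin 2 ⊕ Fin 2) (Fin 2 ⊕ Fin 2) K} {B : Subgroup G} {π : Equiv.Perm (Fin 2 ⊕ Fin 2)}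
    (E : Fr φ B π) (hB : ¬ IsCyclic B) : Tor B := by
  have hA : ∀ a : B →* Kˣ, a = a⁻¹ → a = 1 := fun a e => MonoidHom.ext fun b => Units.ext (by
    have h1 : (a b : K) * a b = 1 := congrArg Units.val (eq_inv_iff_mul_eq_one.1 (DFunLike.congr_fun e b))
    exact (mul_self_eq_one_iff.1 h1).elim id fun e => e.trans (CharTwo.neg_eq 1))
  have h1 : ∀ k, ∃ l, E.W l ≠ 1 ∧ E.W l ≠ E.W k ∧ E.W l ≠ (E.W k)⁻¹ := fun k => by
    by_contra hn
    push Not at hn
    refine hB (isCyclic_of_injective_ringHom ((Units.coeHom K).comp (E.W k)) fun a b e => E.ext fun l => ?_)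
    have e' : E.W k a = E.W k b := Units.ext e
    by_cases h1 : E.W l = 1
    · rw [h1]
      rfl
    by_cases h2 : E.W l = E.W k
    · rw [h2, e']
    · rw [hn l h1 h2, MonoidHom.inv_apply, MonoidHom.inv_apply, e']
  obtain ⟨k, h2, -⟩ := h1 (.inl 0)
  obtain ⟨l, h3, h4, h5⟩ := h1 k
  obtain ⟨h6, h7⟩ := inj_four rfl hA (fun i => ⟨π i, E.W_pi i⟩) h2 h3 h4 h5
  refine ⟨E.comm h6, fun t ht => ?_, E.inv h6, E.odd h6⟩
  obtain ⟨σ, h8, -, h9⟩ := E.perm h6 ht
  exact ⟨2, h9 _ (Equiv.ext (pow_four π σ fun i => ⟨fun e => h7 i (hA _ (by rw [← E.W_pi, e])),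
    h6 (by rw [E.W_pi, E.W_pi]; exact _root_.inv_inv (E.W i)), Equiv.congr_fun h8 i⟩))⟩

/-- the noncyclic abelian subgroups of odd order of `Sp₄(q)` -/
theorem tor_sp {F : Type} [Field F] [CharP F 2] (ψ : G →* symplecticGroup (Fin 2) F) (hψ : Function.Injective ψ)
    {B : Subgroup G} (hB : B ≤ Ce B) (hn : ¬ IsCyclic B) {n : ℕ} (ho : Odd n) (he : ∀ b ∈ B, b ^ n = 1) : Tor B := by
  have : CharP (AlgebraicClosure F) 2 := charP_of_injective_algebraMap (algebraMap F _).injective 2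
  let f := algebraMap F (AlgebraicClosure F)
  let χ : G →* Matrix (Fin 2 ⊕ Fin 2) (Fin 2 ⊕ Fin 2) (AlgebraicClosure F) :=
    { toFun := fun g => (ψ g).1.map f
      map_one' := by rw [map_one, OneMemClass.coe_one, Matrix.map_one _ f.map_zero f.map_one]
      map_mul' := fun a b => by rw [map_mul, Submonoid.coe_mul, Matrix.map_mul] }
  obtain ⟨φ, π, E⟩ := exists_fr χ (fun a b e => hψ (Subtype.ext (Matrix.map_injective f.injective e)))
    (isUnit_det_J (Fin 2) _).ne_zero (fun g => SymplecticGroup.mem_iff'.1 (SymplecticGroup.map_mem (ψ g).2 f)) hB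
    (fun e => ho.not_two_dvd_nat ((CharP.cast_eq_zero_iff _ 2 n).1 e)) he
  exact E.tor hn

/-- **[S4]** -/
theorem boxS4 (B : Blk) : BoxS4 := by
  intro p hp F _ _ _ h3 G _ _ σ M b D H
  have h0 : Nat.gcd 2 (Fintype.card F - 1) = 1 := by
    rw [← LieClassical.SympCenter.card_center (F := F) (m := 2) one_le_two, H292.SpCen.center_eq_bot, card_bot]
  have h1 := H95.StemCover.card_ker_dvd_cyclic (S2092.result rfl 2 le_rfl (fun _ => h3) fun h => absurd h.1 (by decide))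
    H.perf σ H.surj H.ker.le
  rw [h0, Nat.dvd_one, card_eq_one, MonoidHom.ker_eq_bot_iff] at h1
  have P := B.pure G p M b D _ σ H
  have hD : IsPGroup p D := P.pg.of_equiv (D.equivMapOfInjective σ h1).symm
  have he : ∀ d ∈ D, d ^ p = 1 := fun d hd => h1 (by
    obtain ⟨k, hk⟩ := IsPGroup.iff_orderOf.1 P.pg ⟨σ d, d, hd, rfl⟩
    rw [map_pow, map_one]
    exact P.expo _ (BHZ.Nil.self_le_KK _ ⟨d, hd, rfl⟩) ⟨k, (orderOf_coe _).trans hk⟩)
  have T : ∀ A ≤ D, A ≤ Ce A → ¬ IsCyclic A → Tor A := fun A h4 h5 h6 =>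
    tor_sp ((H292.SpCen.spEquiv 2).symm.toMonoidHom.comp σ) ((H292.SpCen.spEquiv 2).symm.injective.comp h1) h5 h6
      (hp.out.odd_of_ne_two H.odd) fun a ha => he a (h4 ha)
  have h4 := ab_of_tor H.odd hD H.nc he T
  exact (T D le_rfl h4 H.nc).false B H.toTwo H.perf h4

end Cfsg.Agent.TO.S4
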