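import Cfsg.Agent.TO.Cl
import Cfsg.Agent.Characters.CCBasic

/-!
# S4817: defect groups with an abelian centralizer of odd order (helper63)

* `Tor D`, `Tor.false` : the block is principal;
* `exists_dg` : simultaneous diagonalisation; `Fr φ B π` : a frame of weights, `Fr.diag`, `Fr.comm`, `Fr.inv`, `Fr.perm`.
-/

set_option autoImplicit false
set_option linter.unusedSectionVars false

namespace Cfsg.Agent.TO.S4

open Cfsg Matrix Subgroup

section Grp

variable {G : Type} [Group G]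

/-- the centralizer of `D` looks like a torus of odd order -/
structure Tor (D : Subgroup G) : Prop where
  comm : ∀ a ∈ Ce D, ∀ b ∈ Ce D, a * b = b * a
  two : ∀ t ∈ normalizer (D : Set G), ∃ k : ℕ, t ^ 2 ^ k ∈ Ce D
  inv : ∀ t : G, (∀ d ∈ D, t * d * t⁻¹ = d⁻¹) → ∀ c ∈ Ce D, t * c * t⁻¹ = c⁻¹
  odd : ∀ c ∈ Ce D, c * c = 1 → c = 1

theorem In_le (D : Subgroup G) (θ : G → ℂ) : In D θ ≤ normalizer (D : Set G) := fun _ ht =>
  mem_normalizer_iff.2 fun x => (ht.1 x).symm

/-- **the block would be principal** -/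
theorem Tor.false [Finite G] (B : Blk) {p : ℕ} [Fact p.Prime] {M : Ideal AlgInt} {b : Set (IrrCharacter G)} {D : Subgroup G}
    (H : Two p M b D) (hG : commutator G = ⊤) (hD : D ≤ Ce D) (T : Tor D) : False := by
  obtain ⟨θ, hθ⟩ := B.can0 G p M b D H.hM H.hb H.hD hD
  obtain ⟨t, ht, h1⟩ := B.neg G p M b D θ H hθ (.inl fun t ht => T.two t (In_le D θ ht))
  have hc : ∀ a b : Ce D, a * b = b * a := fun a b => Subtype.ext (T.comm a a.2 b b.2)
  have h2 := Characters.CCBasic.irr_mul_of_comm hc hθ.irr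
  have h3 : Function.Injective fun c : Ce D => c * c := fun a b e => by
    have e' : a * a = b * b := e
    have h4 : a * b⁻¹ * (a * b⁻¹) = 1 := by
      rw [mul_assoc, ← mul_assoc b⁻¹, hc b⁻¹ a, mul_assoc a, ← mul_assoc a a, e']
      group
    exact mul_inv_eq_one.1 (Subtype.ext (T.odd _ (a * b⁻¹).2 (congrArg Subtype.val h4)))
  refine B.np G p M b D H hG ((B.can1 G p M b D θ hθ).prin fun c hc' => ?_)
  obtain ⟨a, ha⟩ := Finite.injective_iff_surjective.1 h3 ⟨c, hc'⟩
  have h4 : θ (a⁻¹ : Ce D) = θ a := (congrArg θ (T.inv t h1 a a.2)).symm.trans (ht.2 a)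
  have h5 := h2 a a⁻¹
  rw [mul_inv_cancel, h4, ← h2, show a * a = ⟨c, hc'⟩ from ha] at h5
  exact h5.symm.trans (Characters.CCBasic.irr_apply_one_of_comm hc hθ.irr)

/-- a `p`-group of exponent `p` whose noncyclic abelian subgroups satisfy `Tor` is abelian -/
theorem ab_of_tor [Finite G] {p : ℕ} [hp : Fact p.Prime] (h2 : p ≠ 2) {D : Subgroup G} (hD : IsPGroup p D) (hn : ¬ IsCyclic D)
    (he : ∀ d ∈ D, d ^ p = 1) (h : ∀ B ≤ D, B ≤ Ce B → ¬ IsCyclic B → Tor B) : D ≤ Ce D := by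
  have : Nontrivial D := by
    by_contra h1
    have := not_nontrivial_iff_subsingleton.1 h1
    exact hn inferInstance
  have := hD.center_nontrivial
  obtain ⟨z, hz⟩ := exists_ne (1 : center D)
  have hz1 : (z.1 : G) ≠ 1 := fun e => hz (Subtype.ext (Subtype.ext e))
  obtain ⟨x, hx⟩ : ∃ x : D, x ∉ zpowers z.1 := by
    by_contra h1
    push Not at h1
    exact hn ⟨z.1, h1⟩
  have h3 : closure {(z.1 : G), (x : G)} ≤ D := (closure_le _).2 (by
    rintro _ (rfl | rfl)
    exacts [z.1.2, x.2])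
  have h4 : closure {(z.1 : G), (x : G)} ≤ Ce (closure {(z.1 : G), (x : G)}) := by
    rw [Ce, centralizer_closure, closure_le]
    have e := congrArg Subtype.val (mem_center_iff.1 z.2 x)
    rintro _ (rfl | rfl) _ (rfl | rfl)
    exacts [rfl, e, e.symm, rfl]
  have h5 : ¬ IsCyclic (closure {(z.1 : G), (x : G)}) := by
    rintro ⟨g, hg⟩
    obtain ⟨a, ha⟩ := hg ⟨z.1, subset_closure (.inl rfl)⟩
    obtain ⟨c, hc⟩ := hg ⟨x, subset_closure (.inr rfl)⟩
    have ha' : (g : G) ^ a = z.1 := congrArg Subtype.val ha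
    have hc' : (g : G) ^ c = x := congrArg Subtype.val hc
    have h6 : orderOf (g : G) = p := orderOf_eq_prime (he _ (h3 g.2)) fun e => hz1 (by rw [← ha', e, _root_.one_zpow])
    obtain ⟨n, hn⟩ := mem_zpowers_of_prime_card (p := p) (G := zpowers (g : G)) ((Nat.card_zpowers _).trans h6)
      (g := ⟨z.1, a, ha'⟩) (fun e => hz1 (congrArg Subtype.val e)) (g' := ⟨x, c, hc'⟩)
    have h7 : (z.1 : G) ^ n = x := congrArg Subtype.val hn
    exact hx ⟨n, Subtype.ext h7⟩
  generalize closure {(z.1 : G), (x : G)} = B at h3 h4 h5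
  have T := h B h3 h4 h5
  have h6 : D ⊓ Ce B ≤ Ce (D ⊓ Ce B) := fun a ha c hc => T.comm c hc.2 a ha.2
  have T' := h (D ⊓ Ce B) inf_le_left h6 fun _ => h5 (isCyclic_of_le (le_inf h3 h4))
  have := hD.isNilpotent
  have h7 : (D ⊓ Ce B).subgroupOf D = ⊤ := by
    refine normalizerCondition_iff_only_full_group_self_normalizing.1 Group.normalizerCondition_of_isNilpotent _
      (le_antisymm (fun t ht => ⟨t.2, ?_⟩) le_normalizer)
    rw [← subgroupOf_normalizer_eq inf_le_left] at ht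
    obtain ⟨k, hk⟩ := T'.two t ht
    obtain ⟨m, hm⟩ := exists_pow_eq_self_of_coprime (x := (t : G)) (n := 2 ^ k)
      ((((Nat.coprime_primes Nat.prime_two hp.out).2 h2.symm).coprime_dvd_right
        (orderOf_dvd_of_pow_eq_one (he _ t.2))).pow_left k)
    have h8 := pow_mem hk m
    rw [hm] at h8
    exact centralizer_le (le_inf h3 h4) h8
  rwa [inf_eq_left.2 ((subgroupOf_eq_top.1 h7).trans inf_le_right)] at h6

end Grp

section Lin

variable {K I : Type} [Field K] [Fintype I] [DecidableEq I]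

/-- **simultaneous diagonalisation** -/
theorem exists_dg [IsAlgClosed K] {B : Type} (f : B → Matrix I I K) (hc : ∀ a b, f a * f b = f b * f a) {n : ℕ}
    (hn : (n : K) ≠ 0) (h : ∀ b, f b ^ n = 1) : ∃ P : GL I K, ∀ b, (P⁻¹.1 * f b * P.1).IsDiag := by
  have h1 := Module.End.iSup_iInf_maxGenEigenspace_eq_top_of_iSup_maxGenEigenspace_eq_top_of_commute
    (fun b => toLin' (f b)) (fun a b _ => by
      show toLin' (f a) * toLin' (f b) = toLin' (f b) * toLin' (f a)
      rw [Module.End.mul_eq_comp, Module.End.mul_eq_comp, ← toLin'_mul, ← toLin'_mul, hc])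
    fun b => Module.End.iSup_maxGenEigenspace_eq_top _
  have h2 : ∀ b, Module.End.IsSemisimple (toLin' (f b)) := fun b =>
    Module.End.isSemisimple_of_squarefree_aeval_eq_zero (Polynomial.separable_X_pow_sub_C 1 hn one_ne_zero).squarefree (by
      rw [map_sub, map_pow, Polynomial.aeval_X, Polynomial.aeval_C, map_one, ← toLin'_pow, h, toLin'_one]
      exact sub_self _)
  simp only [(h2 _).isFinitelySemisimple.maxGenEigenspace_eq_eigenspace] at h1
  have h3 : Submodule.span K {v : I → K | ∀ b, ∃ c : K, f b *ᵥ v = c • v} = ⊤ := by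
    rw [eq_top_iff, ← h1]
    exact iSup_le fun χ v hv => Submodule.subset_span fun b =>
      ⟨χ b, Module.End.mem_eigenspace_iff.1 ((Submodule.mem_iInf _).1 hv b)⟩
  obtain ⟨g, h4, -, h5⟩ := Submodule.exists_fun_fin_finrank_span_eq K {v : I → K | ∀ b, ∃ c : K, f b *ᵥ v = c • v}
  let e := Fintype.equivFinOfCardEq (α := I) (n := Module.finrank K (Submodule.span K
    {v : I → K | ∀ b, ∃ c : K, f b *ᵥ v = c • v})) (by rw [h3, finrank_top, Module.finrank_fintype_fun_eq_card])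
  obtain ⟨P, hP⟩ := (linearIndependent_cols_iff_isUnit (A := Matrix.of fun i j => g (e j) i)).1 (h5.comp e e.injective)
  refine ⟨P, fun b => ?_⟩
  choose c hc using fun j => h4 (e j) b
  have h6 : f b * P.1 = P.1 * diagonal c := by
    ext i j
    rw [mul_diagonal, hP, mul_comm]
    exact congrFun (hc j) i
  rw [mul_assoc, h6, Units.inv_mul_cancel_left]
  exact isDiag_diagonal c

theorem exists_perm {A : Matrix I I K} (h : A.det ≠ 0) : ∃ π : Equiv.Perm I, ∀ i, A (π i) i ≠ 0 := by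
  rw [det_apply] at h
  obtain ⟨π, -, h1⟩ := Finset.exists_ne_zero_of_sum_ne_zero h
  exact ⟨π, fun i e => h1 (by rw [Finset.prod_eq_zero (f := fun i => A (π i) i) (Finset.mem_univ i) e, smul_zero])⟩

theorem dg_mul {A : Matrix I I K} (h : A.IsDiag) (X : Matrix I I K) (i j : I) : (A * X) i j = A i i * X i j := by
  conv_lhs => rw [← h.diagonal_diag, diagonal_mul]
  rfl

theorem mul_dg {A : Matrix I I K} (h : A.IsDiag) (X : Matrix I I K) (i j : I) : (X * A) i j = X i j * A j j := by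
  conv_lhs => rw [← h.diagonal_diag, mul_diagonal]
  rfl

variable {G : Type} [Group G] {φ : G →* Matrix I I K} {B : Subgroup G} {π : Equiv.Perm I}

/-- `B` is diagonal, and the diagonal elements have inverse entries at `i` and `π i` -/
structure Fr (φ : G →* Matrix I I K) (B : Subgroup G) (π : Equiv.Perm I) : Prop where
  inj : Function.Injective φ
  dg : ∀ b ∈ B, (φ b).IsDiag
  pair : ∀ c, (φ c).IsDiag → ∀ i, φ c (π i) (π i) * φ c i i = 1

/-- a frame for a group which preserves a nondegenerate bilinear form -/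
theorem exists_fr [IsAlgClosed K] (ψ : G →* Matrix I I K) (hψ : Function.Injective ψ) {J : Matrix I I K} (hJ : J.det ≠ 0)
    (h : ∀ g, (ψ g)ᵀ * J * ψ g = J) (hB : B ≤ Ce B) {n : ℕ} (hn : (n : K) ≠ 0) (he : ∀ b ∈ B, b ^ n = 1) :
    ∃ (φ : G →* Matrix I I K) (π : Equiv.Perm I), Fr φ B π := by
  obtain ⟨P, hP⟩ := exists_dg (fun b : B => ψ b) (fun a b => by rw [← map_mul, ← map_mul, hB b.2 a a.2]) hn
    fun b => by rw [← map_pow, he b b.2, map_one]
  obtain ⟨π, h1⟩ := exists_perm (A := P.1ᵀ * J * P.1) (by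
    rw [det_mul, det_mul, det_transpose]
    exact mul_ne_zero (mul_ne_zero P.det_ne_zero hJ) P.det_ne_zero)
  refine ⟨⟨⟨fun g => P⁻¹.1 * ψ g * P.1, by rw [map_one, mul_one, Units.inv_mul]⟩, fun a b => by
    simp only [map_mul, mul_assoc, Units.mul_inv_cancel_left]⟩, π, fun a b e => hψ ?_, fun b hb => hP ⟨b, hb⟩,
    fun c hc i => ?_⟩
  · exact (Units.mul_right_inj _).1 ((Units.mul_left_inj _).1 e)
  · have h2 : (P⁻¹.1 * ψ c * P.1)ᵀ * (P.1ᵀ * J * P.1) * (P⁻¹.1 * ψ c * P.1) = P.1ᵀ * ((ψ c)ᵀ * J * ψ c) * P.1 := by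
      have h3 : P⁻¹.1ᵀ * P.1ᵀ = 1 := by rw [← transpose_mul, Units.mul_inv, transpose_one]
      simp only [transpose_mul, mul_assoc, Units.mul_inv_cancel_left]
      rw [← mul_assoc P⁻¹.1ᵀ, h3, one_mul]
    have hc' : (P⁻¹.1 * ψ c * P.1).IsDiag := hc
    have h3 := congrFun (congrFun h2 (π i)) i
    rw [h, mul_dg hc', dg_mul hc'.transpose, mul_right_comm] at h3
    exact (mul_eq_right₀ (h1 i)).1 h3

namespace Fr

variable (E : Fr φ B π)

/-- the weights -/
noncomputable def W (i : I) : B →* Kˣ :=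
  MonoidHom.toHomUnits
    { toFun := fun b => φ b i i
      map_one' := by simp
      map_mul' := fun a b => by rw [coe_mul, map_mul, dg_mul (E.dg a a.2)] }

theorem W_coe (i : I) (b : B) : (E.W i b : K) = φ b i i := rfl

theorem W_pi (i : I) : E.W (π i) = (E.W i)⁻¹ :=
  MonoidHom.ext fun b => eq_inv_of_mul_eq_one_left (Units.ext (E.pair b (E.dg b b.2) i))

theorem ext {a b : B} (h : ∀ i, E.W i a = E.W i b) : a = b := by
  refine Subtype.ext (E.inj ?_)
  rw [← (E.dg a a.2).diagonal_diag, ← (E.dg b b.2).diagonal_diag]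
  exact congrArg diagonal (funext fun i => congrArg Units.val (h i))

theorem rel {t : G} {a b : B} (h : t * a = b * t) {i j : I} (h1 : φ t i j ≠ 0) : E.W j a = E.W i b := by
  have h2 := congrFun (congrFun (congrArg φ h) i) j
  rw [map_mul, map_mul, mul_dg (E.dg a a.2), dg_mul (E.dg b b.2), mul_comm] at h2
  exact Units.ext (mul_right_cancel₀ h1 h2)

variable (h : Function.Injective E.W)
include h

theorem diag {c : G} (hc : c ∈ Ce B) : (φ c).IsDiag := fun _ _ e => by_contra fun h1 =>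
  e (h (MonoidHom.ext fun b => (E.rel (hc b b.2).symm h1).symm))

theorem comm (a : G) (ha : a ∈ Ce B) (b : G) (hb : b ∈ Ce B) : a * b = b * a := by
  refine E.inj (Matrix.ext fun i j => ?_)
  rw [map_mul, map_mul, dg_mul (E.diag h ha), mul_dg (E.diag h ha)]
  by_cases e : i = j
  · rw [e, mul_comm]
  · rw [E.diag h hb e, mul_zero, zero_mul]

theorem inv (t : G) (ht : ∀ d ∈ B, t * d * t⁻¹ = d⁻¹) (c : G) (hc : c ∈ Ce B) : t * c * t⁻¹ = c⁻¹ := by
  rw [mul_inv_eq_iff_eq_mul, eq_inv_mul_iff_mul_eq]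
  refine E.inj (Matrix.ext fun i j => ?_)
  rw [map_mul, map_mul, dg_mul (E.diag h hc), mul_dg (E.diag h hc)]
  by_cases h1 : φ t i j = 0
  · rw [h1, zero_mul, mul_zero]
  · obtain rfl : j = π i := h (MonoidHom.ext fun b => by
      rw [E.rel (b := b⁻¹) (mul_inv_eq_iff_eq_mul.1 (ht b b.2)) h1, E.W_pi, map_inv, MonoidHom.inv_apply])
    rw [mul_left_comm, mul_comm (φ c i i), E.pair c (E.diag h hc), mul_one]

theorem odd [CharP K 2] (c : G) (hc : c ∈ Ce B) (h1 : c * c = 1) : c = 1 := by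
  refine E.inj ?_
  rw [← (E.diag h hc).diagonal_diag, map_one, ← diagonal_one]
  refine congrArg diagonal (funext fun i => ?_)
  have h2 := congrFun (congrFun (congrArg φ h1) i) i
  rw [map_mul, dg_mul (E.diag h hc), map_one, one_apply_eq] at h2
  exact (mul_self_eq_one_iff.1 h2).elim id fun e => e.trans (CharTwo.neg_eq 1)

/-- the normaliser permutes the weights -/
theorem perm {t : G} (ht : t ∈ normalizer (B : Set G)) : ∃ σ : Equiv.Perm I, σ * π = π * σ ∧
    (∀ j b, E.W (σ j) (B.normalizerMonoidHom ⟨t, ht⟩ b) = E.W j b) ∧ ∀ n : ℕ, σ ^ n = 1 → t ^ n ∈ Ce B := by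
  obtain ⟨σ, h1⟩ := exists_perm (A := φ t) ((isUnit_iff_isUnit_det _).1 ((Group.isUnit t).map φ)).ne_zero
  have h2 : ∀ j b, E.W (σ j) (B.normalizerMonoidHom ⟨t, ht⟩ b) = E.W j b := fun j b =>
    (E.rel (inv_mul_cancel_right _ _).symm (h1 j)).symm
  refine ⟨σ, Equiv.ext fun j => h (MonoidHom.ext fun b => ?_), h2, fun n hn b hb => ?_⟩
  · obtain ⟨b, rfl⟩ := (B.normalizerMonoidHom ⟨t, ht⟩).surjective b
    rw [Equiv.Perm.mul_apply, Equiv.Perm.mul_apply, h2, E.W_pi, E.W_pi, MonoidHom.inv_apply, MonoidHom.inv_apply, h2]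
  · have h3 : ∀ (m : ℕ) j b, E.W ((σ ^ m) j) ((B.normalizerMonoidHom ⟨t, ht⟩ ^ m) b) = E.W j b := fun m => by
      induction m with
      | zero => exact fun _ _ => rfl
      | succ m ih => exact fun j b => by rw [pow_succ', pow_succ', Equiv.Perm.mul_apply, MulAut.mul_apply, h2, ih]
    have h4 := E.ext fun j => (hn ▸ h3 n j ⟨b, hb⟩ :)
    rw [← map_pow] at h4
    exact (mul_inv_eq_iff_eq_mul.1 (congrArg Subtype.val h4)).symm

end Fr

end Lin

end Cfsg.Agent.TO.S4
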